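import Groth.Agent.TraceFin.Etale
import Groth.Agent.EtDev.Setup
import Groth.Prelude.Def_EtAcyc
import Mathlib.AlgebraicGeometry.AlgClosed.Basic

/-!
# Vanishing of cohomology descends along finite étale covers of coprime degree
-/

universe u

open CategoryTheory CategoryTheory.Limits AlgebraicGeometry Opposite

namespace Groth.Agent.TraceFin

open Groth.Agent.EtFound

set_option backward.isDefEq.respectTransparency false
set_option backward.isDefEq.respectTransparency.types false
set_option linter.style.haveILetI false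

variable {X X' : Scheme.{u}} (f : X' ⟶ X)

theorem natCard_lifts [IsFinite f] {Ω : Type u} [Field Ω] [IsAlgClosed Ω] (η : Spec (CommRingCat.of Ω) ⟶ X) :
    Nat.card {t : Spec (CommRingCat.of Ω) ⟶ X' // t ≫ f = η} = Nat.card ↥(pullback f η) := by
  haveI : IsFinite (pullback.snd f η) := MorphismProperty.pullback_snd _ _ ‹IsFinite f›
  haveI : Finite ↥(pullback f η) := by
    haveI : CompactSpace ↥(pullback f η) := QuasiCompact.compactSpace_of_compactSpace (pullback.snd f η)
    exact Set.finite_univ_iff.1 (((pullback.snd f η).finite_preimage_singleton (default : Spec (CommRingCat.of Ω))).subset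
      fun x _ => Subsingleton.elim _ _)
  haveI : JacobsonSpace ↥(pullback f η) := LocallyOfFiniteType.jacobsonSpace (pullback.snd f η)
  let e₁ : {t : Spec (CommRingCat.of Ω) ⟶ X' // t ≫ f = η} ≃
      {p : Spec (CommRingCat.of Ω) ⟶ pullback f η // p ≫ pullback.snd f η = 𝟙 _} :=
    { toFun := fun t => ⟨pullback.lift t.1 (𝟙 _) (t.2.trans (Category.id_comp η).symm), pullback.lift_snd _ _ _⟩
      invFun := fun p => ⟨p.1 ≫ pullback.fst f η, by
        rw [Category.assoc, pullback.condition, ← Category.assoc, p.2, Category.id_comp]⟩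
      left_inv := fun t => Subtype.ext (pullback.lift_fst _ _ _)
      right_inv := fun p => Subtype.ext (pullback.hom_ext (pullback.lift_fst _ _ _)
        ((pullback.lift_snd _ _ _).trans p.2.symm)) }
  exact Nat.card_congr ((e₁.trans (pointEquivClosedPoint (pullback.snd f η))).trans
    (Equiv.subtypeUnivEquiv fun x => isClosed_singleton))

theorem bijective_nsmul_of_coprime {A : Type*} [AddCommGroup A] {d : ℕ}
    (h : ∀ x : A, ∃ m : ℕ, Nat.Coprime d m ∧ m • x = 0) : Function.Bijective fun x : A => d • x := by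
  have key : ∀ x : A, ∃ c : ℤ, x = c • (d • x) ∧ x = d • (c • x) := fun x => by
    obtain ⟨m, hdm, hm⟩ := h x
    refine ⟨Nat.gcdA d m, ?_, ?_⟩
    all_goals
      have e := Nat.gcd_eq_gcd_ab d m
      rw [hdm.gcd_eq_one] at e
      have hx : x = ((d : ℤ) * Nat.gcdA d m + (m : ℤ) * Nat.gcdB d m) • x := by
        rw [← e]; simp
      conv_lhs => rw [hx]
      rw [add_smul, mul_comm (m : ℤ), mul_smul _ (m : ℤ), natCast_zsmul, hm, zsmul_zero, add_zero]
    · rw [mul_comm, mul_smul, natCast_zsmul]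
    · rw [mul_smul, natCast_zsmul]
  refine ⟨fun x y e => ?_, fun x => ?_⟩
  · refine sub_eq_zero.1 ?_
    obtain ⟨c, hc, -⟩ := key (x - y)
    rw [hc, nsmul_sub, show d • x = d • y from e, sub_self, zsmul_zero]
  · obtain ⟨c, -, hc⟩ := key x
    exact ⟨c • x, hc.symm⟩

theorem isIso_nsmul_id {L : Set ℕ} {d : ℕ} (hL : ∀ p : ℕ, p.Prime → p ∈ L → ¬ p ∣ d) {F : EtCoh.Ab X}
    (hF : EtAcyc.IsLTorsion L F) : IsIso (d • 𝟙 F) := by
  refine (isIso_iff_stalks _).2 fun Ω _ _ ξ => ?_
  haveI : (EtCoh.stalk ξ).Additive := Functor.additive_of_preserves_binary_products _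
  rw [Functor.map_nsmul, CategoryTheory.Functor.map_id]
  refine (ConcreteCategory.isIso_iff_bijective _).2 ?_
  have hb := bijective_nsmul_of_coprime (A := (EtCoh.stalk ξ).obj F) (d := d) fun q => ?_
  · exact hb
  · obtain ⟨V, v, s, rfl⟩ := (Scheme.pointSmallEtale ξ).toPresheafFiber_jointly_surjective q
    obtain ⟨W, g, m, ⟨w, hw⟩, hm, h0⟩ := hF V s ((v.left : Spec (CommRingCat.of Ω) ⟶ V.left).base (default : Spec (CommRingCat.of Ω)))
    refine ⟨m, Nat.coprime_of_dvd fun p hp h1 h2 => hL p hp (hm.2 p hp h2) h1, ?_⟩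
    obtain ⟨w', hw', -⟩ := exists_lift_point g v w hw
    rw [← hw']
    refine (congrArg (m • ·) ((Scheme.pointSmallEtale ξ).toPresheafFiber_w_apply g w' F.obj s).symm).trans ?_
    refine (map_nsmul _ m _).symm.trans ((congrArg _ h0).trans (map_zero _))

theorem subsingleton_H_of_finite_etale [IsFinite f] [AlgebraicGeometry.Etale f]
    (d : ℕ) (hd : ∀ (Ω : Type u) [Field Ω] [IsSepClosed Ω] (ξ : Spec (CommRingCat.of Ω) ⟶ X),
      Nat.card ↥(pullback f ξ) = d)
    (L : Set ℕ) (hL : ∀ p : ℕ, p.Prime → p ∈ L → ¬ p ∣ d) (F : EtCoh.Ab X) (hF : EtAcyc.IsLTorsion L F)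
    (q : ℕ) (h : Subsingleton (EtCoh.H X' ((EtCoh.pull f).obj F) q)) : Subsingleton (EtCoh.H X F q) := by
  haveI := isIso_nsmul_id hL hF
  have hz : IsZero ((EtCoh.HF X q).obj ((EtCoh.push f).obj ((EtCoh.pull f).obj F))) :=
    @AddCommGrpCat.isZero_of_subsingleton _ (EtDev.subsingleton_H_push_finite f _ q h)
  have e := unit_Tr f d (finrank_eq_of_natCard f fun Ω _ _ η => (natCard_lifts f η).trans (hd Ω η)) F
  haveI : IsIso ((EtCoh.HF X q).map ((EtCoh.pullPushAdj f).unit.app F ≫ (Tr f).app F)) := by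
    rw [e]; infer_instance
  have h0 : (EtCoh.HF X q).map ((EtCoh.pullPushAdj f).unit.app F ≫ (Tr f).app F) = 0 := by
    rw [Functor.map_comp, hz.eq_zero_of_tgt ((EtCoh.HF X q).map ((EtCoh.pullPushAdj f).unit.app F)), zero_comp]
  exact AddCommGrpCat.subsingleton_of_isZero (G := (EtCoh.HF X q).obj F)
    ((IsZero.iff_id_eq_zero _).2 ((cancel_mono ((EtCoh.HF X q).map ((EtCoh.pullPushAdj f).unit.app F ≫ (Tr f).app F))).1
      (by rw [Category.id_comp, zero_comp]; exact h0)))

end Groth.Agent.TraceFin
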